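/-
A field with four elements, given by tables.
-/
import Mathlib

namespace CfsgLib.Spor.Fi22.U6

/-- Four elements: zero, one, and the two others. -/
inductive Four
  | o
  | e
  | w
  | u
  deriving DecidableEq

instance : Fintype Four := ⟨{.o, .e, .w, .u}, fun x => by cases x <;> simp⟩

namespace Four

instance : Inhabited Four := ⟨o⟩

/-- Sum. -/
def add : Four → Four → Four
  | o, x => x
  | x, o => x
  | e, e => o
  | e, w => u
  | e, u => w
  | w, e => u
  | w, w => o
  | w, u => e
  | u, e => w
  | u, w => e
  | u, u => o

/-- Product. -/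
def mul : Four → Four → Four
  | o, _ => o
  | _, o => o
  | e, x => x
  | x, e => x
  | w, w => u
  | w, u => e
  | u, w => e
  | u, u => w

/-- Inverse. -/
def inv : Four → Four
  | o => o
  | e => e
  | w => u
  | u => w

instance : Add Four := ⟨add⟩
instance : Mul Four := ⟨mul⟩
instance : Zero Four := ⟨o⟩
instance : One Four := ⟨e⟩
instance : Neg Four := ⟨id⟩
instance : Inv Four := ⟨inv⟩

theorem add_assoc' : ∀ a b c : Four, a + b + c = a + (b + c) := by decide
theorem zero_add' : ∀ a : Four, 0 + a = a := by decide
theorem add_zero' : ∀ a : Four, a + 0 = a := by decide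
theorem add_comm' : ∀ a b : Four, a + b = b + a := by decide
theorem neg_add' : ∀ a : Four, -a + a = 0 := by decide
theorem mul_assoc' : ∀ a b c : Four, a * b * c = a * (b * c) := by decide
theorem mul_comm' : ∀ a b : Four, a * b = b * a := by decide
theorem one_mul' : ∀ a : Four, 1 * a = a := by decide
theorem mul_one' : ∀ a : Four, a * 1 = a := by decide
theorem zero_mul' : ∀ a : Four, 0 * a = 0 := by decide
theorem mul_zero' : ∀ a : Four, a * 0 = 0 := by decide
theorem left_distrib' : ∀ a b c : Four, a * (b + c) = a * b + a * c := by decide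
theorem right_distrib' : ∀ a b c : Four, (a + b) * c = a * c + b * c := by decide
theorem mul_inv' : ∀ a : Four, a ≠ 0 → a * a⁻¹ = 1 := by decide

instance : CommRing Four where
  add_assoc := add_assoc'
  zero_add := zero_add'
  add_zero := add_zero'
  add_comm := add_comm'
  neg_add_cancel := neg_add'
  nsmul := nsmulRec
  zsmul := zsmulRec
  mul_assoc := mul_assoc'
  mul_comm := mul_comm'
  one_mul := one_mul'
  mul_one := mul_one'
  zero_mul := zero_mul'
  mul_zero := mul_zero'
  left_distrib := left_distrib'
  right_distrib := right_distrib'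

instance : Field Four where
  exists_pair_ne := ⟨o, e, by decide⟩
  mul_inv_cancel := mul_inv'
  inv_zero := rfl
  nnqsmul := _
  qsmul := _

theorem card_four : Fintype.card Four = 4 := by decide

end Four

end CfsgLib.Spor.Fi22.U6
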