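/-
Unitary transvections in dimension six over four elements.
-/
import Cfsg.Agent.Lib.Spor.Fi22.U6.Field
import Cfsg.Prelude.Def_Classical

namespace CfsgLib.Spor.Fi22.U6

open Matrix

/-- The vectors. -/
abbrev V6 : Type := Fin 6 → Four

/-- The hermitian form. -/
abbrev hf (x y : V6) : Four := Cfsg.hermForm 6 Four 2 x y

/-- The special unitary group. -/
abbrev G6 : Type := ↥(Cfsg.SU 6 Four 2)

theorem add_self (a : Four) : a + a = 0 := by revert a; decide

theorem sq_add (a b : Four) : (a + b) ^ 2 = a ^ 2 + b ^ 2 := by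
  rw [add_sq, two_mul a, add_self, zero_mul, add_zero]

theorem sq_sq (a : Four) : (a ^ 2) ^ 2 = a := by revert a; decide

theorem sq_sum {ι : Type*} (s : Finset ι) (f : ι → Four) : (∑ i ∈ s, f i) ^ 2 = ∑ i ∈ s, f i ^ 2 := by
  induction s using Finset.cons_induction with
  | empty => simp
  | cons a s ha ih => rw [Finset.sum_cons, Finset.sum_cons, sq_add, ih]

theorem hf_add_left (x y z : V6) : hf (x + y) z = hf x z + hf y z := by
  simp [Cfsg.hermForm, add_mul, Finset.sum_add_distrib]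

theorem hf_smul_left (c : Four) (x z : V6) : hf (c • x) z = c * hf x z := by
  simp [Cfsg.hermForm, Finset.mul_sum, mul_assoc]

theorem hf_add_right (x y z : V6) : hf x (y + z) = hf x y + hf x z := by
  simp [Cfsg.hermForm, sq_add, mul_add, Finset.sum_add_distrib]

theorem hf_smul_right (c : Four) (x z : V6) : hf x (c • z) = c ^ 2 * hf x z := by
  simp [Cfsg.hermForm, Finset.mul_sum, mul_pow, mul_left_comm]

theorem hf_swap (x y : V6) : hf x y ^ 2 = hf y x := by
  simp only [Cfsg.hermForm, sq_sum, mul_pow, sq_sq]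
  exact Finset.sum_congr rfl fun i _ => mul_comm _ _

/-- The matrix of a transvection. -/
def trMat (v : V6) : Matrix (Fin 6) (Fin 6) Four := 1 + vecMulVec v (fun i => v i ^ 2)

theorem trMat_mulVec (v x : V6) : trMat v *ᵥ x = x + hf x v • v := by
  rw [trMat, add_mulVec, one_mulVec, vecMulVec_mulVec, op_smul_eq_smul, dotProduct_comm]
  rfl

theorem trMat_det {v : V6} (hv : hf v v = 0) : (trMat v).det = 1 := by
  rw [trMat, vecMulVec_eq Unit, det_one_add_replicateCol_mul_replicateRow, dotProduct_comm]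
  show 1 + hf v v = 1
  rw [hv, add_zero]

theorem trMat_preserves {v : V6} (hv : hf v v = 0) (x y : V6) : hf (trMat v *ᵥ x) (trMat v *ᵥ y) = hf x y := by
  rw [trMat_mulVec, trMat_mulVec, hf_add_left, hf_add_right, hf_add_right, hf_smul_left, hf_smul_left,
    hf_smul_right, hf_smul_right, hv, hf_swap, mul_zero, mul_zero, add_zero, mul_comm (hf v y), add_assoc, add_self,
    add_zero]

/-- The transvection at an isotropic vector. -/
def tr (v : V6) : G6 :=
  if h : hf v v = 0 then ⟨⟨trMat v, trMat_det h⟩, fun x y => trMat_preserves h x y⟩ else 1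

/-- The matrix of an element. -/
abbrev mat6 (g : G6) : Matrix (Fin 6) (Fin 6) Four := g.1.1

theorem tr_mulVec {v : V6} (hv : hf v v = 0) (x : V6) : mat6 (tr v) *ᵥ x = x + hf x v • v := by
  rw [tr, dif_pos hv]
  exact trMat_mulVec v x

theorem ext6 {g h : G6} (e : ∀ x, mat6 g *ᵥ x = mat6 h *ᵥ x) : g = h :=
  Subtype.ext (Subtype.ext (ext_iff_mulVec.2 e))

theorem hf_mat6 (g : G6) (x y : V6) : hf (mat6 g *ᵥ x) (mat6 g *ᵥ y) = hf x y := g.2 x y

theorem mat6_mul (g h : G6) (x : V6) : mat6 (g * h) *ᵥ x = mat6 g *ᵥ (mat6 h *ᵥ x) :=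
  (mulVec_mulVec x (mat6 g) (mat6 h)).symm

theorem mat6_one (x : V6) : mat6 (1 : G6) *ᵥ x = x := one_mulVec x

theorem tr_sq (v : V6) : tr v * tr v = 1 := by
  by_cases hv : hf v v = 0
  · refine ext6 fun x => ?_
    rw [mat6_mul, tr_mulVec hv, tr_mulVec hv, hf_add_left, hf_smul_left, hv, mul_zero, add_zero, add_assoc,
      ← add_smul, add_self, zero_smul, add_zero, mat6_one]
  · rw [tr, dif_neg hv, one_mul]

theorem tr_conj (g : G6) {v : V6} (hv : hf v v = 0) : g * tr v * g⁻¹ = tr (mat6 g *ᵥ v) := by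
  have hgv : hf (mat6 g *ᵥ v) (mat6 g *ᵥ v) = 0 := (hf_mat6 g v v).trans hv
  rw [mul_inv_eq_iff_eq_mul]
  refine ext6 fun x => ?_
  rw [mat6_mul, mat6_mul, tr_mulVec hv, tr_mulVec hgv, hf_mat6, mulVec_add, mulVec_smul]

theorem tr_smul {v : V6} (hv : hf v v = 0) {c : Four} (hc : c ≠ 0) : tr (c • v) = tr v := by
  have hcv : hf (c • v) (c • v) = 0 := by rw [hf_smul_left, hf_smul_right, hv, mul_zero, mul_zero]
  refine ext6 fun x => ?_
  rw [tr_mulVec hcv, tr_mulVec hv, hf_smul_right, smul_smul,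
    mul_comm (c ^ 2), mul_assoc, show c ^ 2 * c = 1 from (by decide : ∀ d : Four, d ≠ 0 → d ^ 2 * d = 1) c hc, mul_one]

end CfsgLib.Spor.Fi22.U6
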