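/-
The generators of the centralizer of a transposition permute the suborbit of size 693 as transvections permute
their centres.
-/
import Cfsg.Agent.Lib.Spor.Fi22.U6.Transv
import Cfsg.Agent.Lib.Spor.Fi22.U6.Data
import Cfsg.Agent.Lib.Spor.Fi22.ActH.Data
import Cfsg.Agent.Lib.Spor.M24Gen

namespace CfsgLib.Spor.Fi22.U6

open Matrix CfsgLib.Spor.TC

/-- Two bits to an element. -/
def ofNat4 : ℕ → Four
  | 0 => .o
  | 1 => .e
  | 2 => .w
  | _ => .u

/-- An element to two bits. -/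
def toNat4 : Four → ℕ
  | .o => 0
  | .e => 1
  | .w => 2
  | .u => 3

/-- A packed vector. -/
def dec (n : ℕ) : V6 := fun i => ofNat4 ((n >>> (2 * i.1)) &&& 3)

/-- Packing. -/
def enc (v : V6) : ℕ :=
  toNat4 (v 0) + 4 * (toNat4 (v 1) + 4 * (toNat4 (v 2) + 4 * (toNat4 (v 3) + 4 * (toNat4 (v 4) + 4 * toNat4 (v 5)))))

theorem toNat4_lt (a : Four) : toNat4 a < 4 := by cases a <;> decide

theorem ofNat4_toNat4 (a : Four) : ofNat4 (toNat4 a) = a := by cases a <;> rfl

theorem enc_lt (v : V6) : enc v < 4096 := by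
  have h0 := toNat4_lt (v 0); have h1 := toNat4_lt (v 1); have h2 := toNat4_lt (v 2)
  have h3 := toNat4_lt (v 3); have h4 := toNat4_lt (v 4); have h5 := toNat4_lt (v 5)
  simp only [enc]; omega

theorem dec_enc (v : V6) : dec (enc v) = v := by
  have h0 := toNat4_lt (v 0); have h1 := toNat4_lt (v 1); have h2 := toNat4_lt (v 2)
  have h3 := toNat4_lt (v 3); have h4 := toNat4_lt (v 4); have h5 := toNat4_lt (v 5)
  funext i
  have hi : (enc v >>> (2 * i.1)) &&& 3 = toNat4 (v i) := by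
    rw [show (3 : ℕ) = 2 ^ 2 - 1 from rfl, Nat.and_two_pow_sub_one_eq_mod, Nat.shiftRight_eq_div_pow]
    have hfin : ∀ j : Fin 6, j = 0 ∨ j = 1 ∨ j = 2 ∨ j = 3 ∨ j = 4 ∨ j = 5 := by decide
    rcases hfin i with rfl | rfl | rfl | rfl | rfl | rfl <;>
    · norm_num [enc]
      omega
  rw [dec, hi, ofNat4_toNat4]

/-- The point at a position. -/
def ptAt (i : ℕ) : ℕ := arrGet 12 ptsArr i

/-- Its isotropic vector. -/
def codeAt (i : ℕ) : ℕ := arrGet 12 codeArr i

/-- The position of a point. -/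
def posAt (c : ℕ) : ℕ := arrGet 12 posArr c

/-- The position of a vector. -/
def idxAt (n : ℕ) : ℕ := arrGet 12 idxArr n

/-- The transvection centre of a generator. -/
def rootAt (s : ℕ) : ℕ := rootList.getD s 0

/-- The generators of the centralizer. -/
def gensH' : List ℕ := [0, 2, 3, 4, 5, 6, 7, 8, 9]

/-- The image of a vector under a generator. -/
def move (s : ℕ) (x : V6) : V6 := if s = 0 then x else x + hf x (dec (rootAt s)) • dec (rootAt s)

/-- A position is consistent. -/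
noncomputable def posOK (i : ℕ) : Bool :=
  Nat.blt (ptAt i) ActH.act.n && Nat.beq (posAt (ptAt i)) i &&
    decide (hf (dec (codeAt i)) (dec (codeAt i)) = 0) &&
    decide (∃ j : Fin 6, dec (codeAt i) j = 1 ∧ ∀ k : Fin 6, k.1 < j.1 → dec (codeAt i) k = 0) &&
    Nat.beq (idxAt (codeAt i)) i && Nat.blt (codeAt i) 4096

/-- A generator moves a position as its transvection moves the vector. -/
noncomputable def moveOK (s i : ℕ) : Bool :=
  let c := ActH.act.T s (ptAt i)
  let m := enc (move s (dec (codeAt i)))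
  let t := codeAt (posAt c)
  Nat.blt (posAt c) 693 && Nat.beq (ptAt (posAt c)) c && Nat.beq (ActH.act.T s c) (ptAt i) &&
    (Nat.beq m t || Nat.beq m (enc (Four.w • dec t)) || Nat.beq m (enc (Four.u • dec t)))

set_option maxRecDepth 100000 in
theorem pos_ok : allFrom posOK 0 693 = true := by decide +kernel

set_option maxRecDepth 100000 in
theorem move_ok : (allFrom (fun i => gensH'.all fun s => moveOK s i) 0 693) = true := by decide +kernel

/-- Every normalized isotropic vector has a position. -/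
noncomputable def coverOK (n : ℕ) : Bool :=
  !(decide (hf (dec n) (dec n) = 0) &&
      decide (∃ j : Fin 6, dec n j = 1 ∧ ∀ k : Fin 6, k.1 < j.1 → dec n k = 0)) ||
    (Nat.blt (idxAt n) 693 && Nat.beq (codeAt (idxAt n)) n)

set_option maxRecDepth 100000 in
theorem cover_ok : allFrom coverOK 0 4096 = true := by decide +kernel

theorem root_iso : ∀ s ∈ gensH', s ≠ 0 → hf (dec (rootAt s)) (dec (rootAt s)) = 0 := by decide +kernel

/-- The vector of a position. -/
def vecAt (i : ℕ) : V6 := dec (codeAt i)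

theorem pos_facts {i : ℕ} (hi : i < 693) : ptAt i < ActH.act.n ∧ posAt (ptAt i) = i ∧ hf (vecAt i) (vecAt i) = 0 ∧
    (∃ j : Fin 6, vecAt i j = 1 ∧ ∀ k : Fin 6, k.1 < j.1 → vecAt i k = 0) ∧ idxAt (codeAt i) = i ∧ codeAt i < 4096 := by
  have h := allFrom_spec pos_ok i (Nat.zero_le _) (by omega)
  simp only [posOK, Bool.and_eq_true, decide_eq_true_eq] at h
  obtain ⟨⟨⟨⟨⟨h1, h2⟩, h3⟩, h4⟩, h5⟩, h6⟩ := h
  exact ⟨Nat.le_of_ble_eq_true h1, Nat.eq_of_beq_eq_true h2, h3, h4, Nat.eq_of_beq_eq_true h5, Nat.le_of_ble_eq_true h6⟩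

theorem move_facts {s i : ℕ} (hs : s ∈ gensH') (hi : i < 693) :
    posAt (ActH.act.T s (ptAt i)) < 693 ∧ ptAt (posAt (ActH.act.T s (ptAt i))) = ActH.act.T s (ptAt i) ∧
    ActH.act.T s (ActH.act.T s (ptAt i)) = ptAt i ∧
    ∃ c : Four, c ≠ 0 ∧ move s (vecAt i) = c • vecAt (posAt (ActH.act.T s (ptAt i))) := by
  have h := allFrom_spec move_ok i (Nat.zero_le _) (by omega)
  have h := List.all_eq_true.1 h s hs
  simp only [moveOK, Bool.and_eq_true, Bool.or_eq_true] at h
  obtain ⟨⟨⟨h1, h2⟩, h3⟩, h4⟩ := h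
  refine ⟨Nat.le_of_ble_eq_true h1, Nat.eq_of_beq_eq_true h2, Nat.eq_of_beq_eq_true h3, ?_⟩
  have back : ∀ m t : V6, enc m = enc t → m = t := fun m t e => by rw [← dec_enc m, e, dec_enc]
  rcases h4 with (h4 | h4) | h4
  · refine ⟨1, one_ne_zero, ?_⟩
    rw [one_smul, vecAt, vecAt, ← dec_enc (move s _), Nat.eq_of_beq_eq_true h4]
  · exact ⟨.w, by decide, back _ _ (Nat.eq_of_beq_eq_true h4)⟩
  · exact ⟨.u, by decide, back _ _ (Nat.eq_of_beq_eq_true h4)⟩

theorem exists_pos {v : V6} (hv : hf v v = 0) (hv0 : v ≠ 0) : ∃ i < 693, ∃ c : Four, c ≠ 0 ∧ c • v = vecAt i := by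
  obtain ⟨j, hj, hlt⟩ : ∃ j : Fin 6, v j ≠ 0 ∧ ∀ k : Fin 6, k.1 < j.1 → v k = 0 := by
    have hne : (Finset.univ.filter fun j => v j ≠ 0).Nonempty := by
      rw [Finset.filter_nonempty_iff]
      by_contra hc
      exact hv0 (funext fun j => by_contra fun h => hc ⟨j, Finset.mem_univ j, h⟩)
    refine ⟨_, (Finset.mem_filter.1 (Finset.min'_mem _ hne)).2, fun k hk => by_contra fun h => ?_⟩
    exact absurd (Finset.min'_le _ k (Finset.mem_filter.2 ⟨Finset.mem_univ k, h⟩)) (not_le.2 hk)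
  have hc : (v j)⁻¹ ≠ 0 := inv_ne_zero hj
  have hcv : hf ((v j)⁻¹ • v) ((v j)⁻¹ • v) = 0 := by rw [hf_smul_left, hf_smul_right, hv, mul_zero, mul_zero]
  have h := allFrom_spec cover_ok (enc ((v j)⁻¹ • v)) (Nat.zero_le _) (by have := enc_lt ((v j)⁻¹ • v); omega)
  simp only [coverOK, dec_enc] at h
  rw [decide_eq_true hcv, decide_eq_true (show ∃ j' : Fin 6, ((v j)⁻¹ • v) j' = 1 ∧ ∀ k : Fin 6, k.1 < j'.1 →
    ((v j)⁻¹ • v) k = 0 from ⟨j, inv_mul_cancel₀ hj, fun k hk => by rw [Pi.smul_apply, hlt k hk, smul_zero]⟩)] at h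
  simp only [Bool.and_self, Bool.not_true, Bool.false_or, Bool.and_eq_true] at h
  exact ⟨_, Nat.le_of_ble_eq_true h.1, _, hc, by rw [vecAt, Nat.eq_of_beq_eq_true h.2, dec_enc]⟩

theorem tr_injOn {i k : ℕ} (hi : i < 693) (hk : k < 693) (h : tr (vecAt i) = tr (vecAt k)) : i = k := by
  obtain ⟨-, -, hvi, ⟨j, hj1, hjlt⟩, hidi, -⟩ := pos_facts hi
  obtain ⟨-, -, hvk, ⟨l, hl1, hllt⟩, hidk, -⟩ := pos_facts hk
  have key : ∀ m : Fin 6, (vecAt i m) ^ 2 • vecAt i = (vecAt k m) ^ 2 • vecAt k := by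
    intro m
    have e := congrArg (fun g : G6 => mat6 g *ᵥ Pi.single m 1) h
    simp only [tr_mulVec hvi, tr_mulVec hvk] at e
    have hs : ∀ v : V6, hf (Pi.single m 1) v = v m ^ 2 := fun v => by
      simp [Cfsg.hermForm, Pi.single_apply, Finset.sum_ite_eq']
    rw [hs, hs] at e
    exact add_left_cancel e
  have e1 := key j
  rw [hj1, one_pow, one_smul] at e1
  have hkj : vecAt k j ≠ 0 := fun h0 => by
    have := congrFun e1 j
    rw [hj1, h0, zero_pow two_ne_zero, zero_smul] at this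
    exact one_ne_zero this
  have hlj : l = j := by
    rcases lt_trichotomy l.1 j.1 with h1 | h1 | h1
    · have := congrFun e1 l
      rw [hjlt l h1, Pi.smul_apply, hl1, smul_eq_mul, mul_one] at this
      exact absurd this.symm (pow_ne_zero 2 hkj)
    · exact Fin.ext h1
    · exact absurd (hllt j h1) hkj
  subst hlj
  rw [hl1, one_pow, one_smul] at e1
  have hc : codeAt i = codeAt k := by
    have := pos_facts hi
    have := pos_facts hk
    have hE : ∀ n < 4096, enc (dec n) = n := fun n hn => by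
      simpa using allFrom_spec (f := fun n => Nat.beq (enc (dec n)) n)
        (show allFrom (fun n => Nat.beq (enc (dec n)) n) 0 4096 = true by decide +kernel) n (Nat.zero_le _) (by omega)
    rw [← hE _ (pos_facts hi).2.2.2.2.2, ← hE _ (pos_facts hk).2.2.2.2.2]
    exact congrArg enc e1
  rw [← hidi, hc, hidk]

end CfsgLib.Spor.Fi22.U6
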