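/-
The centralizer of a transposition in the presented Fischer group is `2·U₆(2)`.
-/
import Cfsg.Agent.Lib.Spor.Fi22.U6.Points
import Cfsg.Agent.Lib.Spor.Fi22.Final
import Cfsg.Agent.Lib.Classical.PSUSimple
import Cfsg.Agent.Lib.Classical.HermOrder

namespace CfsgLib.Spor.Fi22.U6

open Matrix MulAction CfsgLib.Spor.TC CfsgLib.SU
open scoped commutatorElement

attribute [local instance] actionH

/-- The presented group. -/
abbrev GP : Type := Pres ActH.act.k relsG

/-- The transvections. -/
def Tset : Set G6 := {t | ∃ v : V6, hf v v = 0 ∧ v ≠ 0 ∧ t = tr v}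

theorem conj_mem {t : G6} (ht : t ∈ Tset) (g : G6) : g * t * g⁻¹ ∈ Tset := by
  obtain ⟨v, hv, hv0, rfl⟩ := ht
  refine ⟨mat6 g *ᵥ v, (hf_mat6 g v v).trans hv, fun h => hv0 ?_, tr_conj g hv⟩
  have e := mat6_mul g⁻¹ g v
  rw [inv_mul_cancel, mat6_one, h, mulVec_zero] at e
  exact e

/-- Conjugation on the transvections. -/
noncomputable def conjT : G6 →* Equiv.Perm Tset where
  toFun g :=
    { toFun := fun t => ⟨g * t.1 * g⁻¹, conj_mem t.2 g⟩
      invFun := fun t => ⟨g⁻¹ * t.1 * g, by simpa using conj_mem t.2 g⁻¹⟩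
      left_inv := fun t => Subtype.ext (show g⁻¹ * (g * t.1 * g⁻¹) * g = t.1 by group)
      right_inv := fun t => Subtype.ext (show g * (g⁻¹ * t.1 * g) * g⁻¹ = t.1 by group) }
  map_one' := Equiv.ext fun t => Subtype.ext (show 1 * t.1 * 1⁻¹ = t.1 by group)
  map_mul' g h := Equiv.ext fun t => Subtype.ext (show g * h * t.1 * (g * h)⁻¹ = g * (h * t.1 * h⁻¹) * g⁻¹ by group)

/-- The suborbit. -/
def S : Set (Fin ActH.act.n) := {c | posAt c < 693 ∧ ptAt (posAt c) = c}

/-- The point of a position. -/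
noncomputable def pointOf (i : Fin 693) : Fin ActH.act.n := ⟨ptAt i, (pos_facts i.2).1⟩

theorem pointOf_mem (i : Fin 693) : pointOf i ∈ S := by
  obtain ⟨-, h, -⟩ := pos_facts i.2
  exact ⟨by show posAt (ptAt i) < 693; rw [h]; exact i.2, by show ptAt (posAt (ptAt i)) = ptAt i; rw [h]⟩

theorem tr_vecAt_mem (i : Fin 693) : tr (vecAt i) ∈ Tset := by
  obtain ⟨-, -, hv, ⟨j, hj, -⟩, -⟩ := pos_facts i.2
  exact ⟨_, hv, fun h => one_ne_zero (hj ▸ congrFun h j), rfl⟩

/-- The suborbit against the transvections. -/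
noncomputable def toT : {c // c ∈ S} ≃ Tset :=
  Equiv.ofBijective (fun c => ⟨tr (vecAt (posAt c.1)), tr_vecAt_mem ⟨posAt c.1, c.2.1⟩⟩) ⟨fun c d h => by
      have e := tr_injOn c.2.1 d.2.1 (congrArg Subtype.val h)
      exact Subtype.ext (Fin.ext (by rw [← c.2.2, e, d.2.2])), fun ⟨t, v, hv, hv0, ht⟩ => by
      obtain ⟨i, hi, c, hc, e⟩ := exists_pos hv hv0
      refine ⟨⟨pointOf ⟨i, hi⟩, pointOf_mem _⟩, Subtype.ext ?_⟩
      show tr (vecAt (posAt (ptAt i))) = t
      rw [(pos_facts hi).2.1, ← e, tr_smul hv hc, ht]⟩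

theorem perm_T {s : ℕ} (hs : s ∈ gensH') (c : Fin ActH.act.n) :
    ((ActH.valid.rho (ActH.act.letters relsG s) c : Fin ActH.act.n) : ℕ) = ActH.act.T s c := by
  rw [ActH.valid.rho_letters]
  exact ActH.valid.perm_apply ((by decide +kernel : ∀ y ∈ gensH', y < ActH.act.K) s hs) c

theorem letter_mem_S {s : ℕ} (hs : s ∈ gensH') {c : Fin ActH.act.n} (hc : c ∈ S) :
    ActH.valid.rho (ActH.act.letters relsG s) c ∈ S := by
  obtain ⟨h1, h2, -⟩ := move_facts hs hc.1
  rw [hc.2] at h1 h2
  exact ⟨by rw [perm_T hs]; exact h1, by rw [perm_T hs]; exact h2⟩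

theorem letter_iff_S {s : ℕ} (hs : s ∈ gensH') (c : Fin ActH.act.n) :
    ActH.valid.rho (ActH.act.letters relsG s) c ∈ S ↔ c ∈ S := by
  refine ⟨fun h => ?_, letter_mem_S hs⟩
  have hfix : ∀ d ∈ S, ActH.valid.rho (ActH.act.letters relsG s) (ActH.valid.rho (ActH.act.letters relsG s) d) = d := by
    intro d hd
    have h3 := (move_facts hs hd.1).2.2.1
    rw [hd.2] at h3
    exact Fin.ext (by rw [perm_T hs, perm_T hs]; exact h3)
  have h2 := hfix _ h
  rw [← (ActH.valid.rho (ActH.act.letters relsG s)).injective h2]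
  exact letter_mem_S hs h

theorem mem_iff_S {h : GP} (hh : h ∈ subH) (c : Fin ActH.act.n) : ActH.valid.rho h c ∈ S ↔ c ∈ S := by
  induction hh using Subgroup.closure_induction generalizing c with
  | mem x hx => obtain ⟨s, hs, rfl⟩ := hx; exact letter_iff_S hs c
  | one => rw [map_one]; rfl
  | mul x y _ _ ix iy => rw [map_mul, Equiv.Perm.mul_apply, ix, iy]
  | inv x _ ix =>
    rw [map_inv, ← ix ((ActH.valid.rho x)⁻¹ c)]
    exact iff_of_eq (congrArg (· ∈ S) (Equiv.apply_symm_apply _ _))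

/-- The action on the transvections. -/
noncomputable def sigma : subH →* Equiv.Perm Tset where
  toFun h := toT.permCongr ((ActH.valid.rho h.1).subtypePerm (mem_iff_S h.2))
  map_one' := Equiv.ext fun t => by
    have h : ActH.valid.rho ((1 : subH) : GP) = 1 := map_one _
    simp [Equiv.permCongr_apply, Subtype.ext_iff, h]
  map_mul' g h := Equiv.ext fun t => by
    have e : ActH.valid.rho ((g * h : subH) : GP) = ActH.valid.rho g.1 * ActH.valid.rho h.1 := map_mul _ _ _
    simp [Equiv.permCongr_apply, e]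

/-- The transvection of a generator. -/
noncomputable def genT (s : ℕ) : G6 := if s = 0 then 1 else tr (dec (rootAt s))

theorem mem_subH {s : ℕ} (hs : s ∈ gensH') : ActH.act.letters relsG s ∈ subH :=
  Subgroup.subset_closure ⟨s, hs, rfl⟩

theorem conj_step {s i : ℕ} (hs : s ∈ gensH') (hi : i < 693) :
    genT s * tr (vecAt i) * (genT s)⁻¹ = tr (vecAt (posAt (ActH.act.T s (ptAt i)))) := by
  obtain ⟨h1, -, -, k, hk, hm⟩ := move_facts hs hi
  obtain ⟨-, -, hv, -⟩ := pos_facts hi
  obtain ⟨-, -, hv', -⟩ := pos_facts h1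
  rw [tr_conj (genT s) hv, ← tr_smul hv' hk, ← hm]
  congr 1
  by_cases h0 : s = 0
  · rw [genT, if_pos h0, mat6_one, move, if_pos h0]
  · rw [genT, if_neg h0, tr_mulVec (root_iso s hs h0), move, if_neg h0]

set_option maxRecDepth 100000 in
set_option maxHeartbeats 4000000 in
theorem sq_ok : ∀ s ∈ gensH', allFrom (fun c => Nat.beq (ActH.act.T s (ActH.act.T s c)) c) 0 3510 = true := by
  decide +kernel

theorem sigma_gen {s : ℕ} (hs : s ∈ gensH') : sigma ⟨_, mem_subH hs⟩ = conjT (genT s) := by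
  refine Equiv.ext fun t => ?_
  obtain ⟨c, rfl⟩ := toT.surjective t
  show toT.permCongr _ (toT c) = _
  rw [Equiv.permCongr_apply, Equiv.symm_apply_apply]
  refine Subtype.ext ?_
  show tr (vecAt (posAt (ActH.valid.rho (ActH.act.letters relsG s) c.1 : Fin ActH.act.n))) =
    genT s * tr (vecAt (posAt c.1)) * (genT s)⁻¹
  rw [perm_T hs, conj_step hs c.2.1, c.2.2]

/-- The subgroup of the unitary group generated by the transvections of the generators. -/
noncomputable def genK : Subgroup G6 := Subgroup.closure (genT '' {x | x ∈ gensH'})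

theorem sigma_range : sigma.range = genK.map conjT := by
  have htop : Subgroup.closure (Subtype.val ⁻¹' (ActH.act.letters relsG '' {x | x ∈ gensH'}) : Set subH) = ⊤ :=
    Subgroup.closure_closure_coe_preimage
  rw [MonoidHom.range_eq_map, ← htop, MonoidHom.map_closure, genK, MonoidHom.map_closure]
  congr 1
  ext p
  constructor
  · rintro ⟨⟨x, hx⟩, ⟨s, hs, rfl⟩, rfl⟩
    exact ⟨_, ⟨s, hs, rfl⟩, (sigma_gen hs).symm⟩
  · rintro ⟨_, ⟨s, hs, rfl⟩, rfl⟩
    exact ⟨⟨_, mem_subH hs⟩, ⟨s, hs, rfl⟩, sigma_gen hs⟩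

/-- The conjugation of the unitary field. -/
def ctx : UCtx Four 2 where
  bar :=
    { toFun := fun x => x ^ 2
      invFun := fun x => x ^ 2
      left_inv := sq_sq
      right_inv := sq_sq
      map_mul' := fun x y => mul_pow x y 2
      map_add' := sq_add }
  order_two := orderOf_eq_prime (RingEquiv.ext sq_sq) fun h =>
    absurd (DFunLike.congr_fun h Four.w) (by decide)
  bar_eq _ := rfl

theorem card_psu : Nat.card (Cfsg.PSU 6 Four 2) = 9196830720 := by
  have hF : Fintype.card Four = 2 ^ 2 := Four.card_four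
  have h1 := CfsgLib.Classical.card_su_mul ctx hF (n := 6) (by norm_num)
  rw [CfsgLib.Classical.card_gu_formula ctx hF 6] at h1
  have h2 := Subgroup.card_eq_card_quotient_mul_card_subgroup (Subgroup.center G6)
  rw [UCtx.card_center_su ctx hF (by norm_num : 3 ≤ 6)] at h2
  rw [h2, show (2 : ℕ) ^ (6 * (6 - 1) / 2) * ∏ i ∈ Finset.range 6,
      (if Even i then 2 ^ (i + 1) + 1 else 2 ^ (i + 1) - 1) = 82771476480 by decide +kernel,
    show Nat.gcd 6 (2 + 1) = 3 from rfl] at h1
  change 3 * (Nat.card (Cfsg.PSU 6 Four 2) * 3) = 82771476480 at h1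
  omega

theorem psu_simple : IsSimpleGroup (Cfsg.PSU 6 Four 2) :=
  CfsgLib.Classical.psu_isSimple (q := 2) Four.card_four (by norm_num : 3 ≤ 6) (by norm_num)

theorem center_fixes : ∀ t : G6, t ∈ Subgroup.center G6 → conjT t = 1 := fun t ht =>
  Equiv.ext fun x => Subtype.ext (by
    show t * x.1 * t⁻¹ = x.1
    rw [← Subgroup.mem_center_iff.1 ht x.1, mul_inv_cancel_right])

theorem conjT_genT_ne : conjT (genT 2) ≠ 1 := by
  intro h
  have hs : (2 : ℕ) ∈ gensH' := by decide
  have hne : posAt (ActH.act.T 2 (ptAt 0)) ≠ 0 := by decide +kernel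
  have hp := pointOf_mem ⟨0, by norm_num⟩
  have e := DFunLike.congr_fun ((sigma_gen hs).trans h) (toT ⟨_, hp⟩)
  change toT.permCongr _ (toT ⟨_, hp⟩) = toT ⟨_, hp⟩ at e
  rw [Equiv.permCongr_apply, Equiv.symm_apply_apply] at e
  have e2 := congrArg (fun z : {c // c ∈ S} => posAt z.1) (toT.injective e)
  change posAt (ActH.valid.rho (ActH.act.letters relsG 2) (pointOf ⟨0, by norm_num⟩) : Fin ActH.act.n) =
    posAt (ptAt 0) at e2
  rw [perm_T hs, (pos_facts (by norm_num : 0 < 693)).2.1] at e2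
  exact hne e2

set_option maxRecDepth 100000 in
theorem parent_ok : allFrom (fun i => Nat.beq i 0 || gensH'.any fun s => Nat.blt (posAt (ActH.act.T s (ptAt i))) i) 0 693
    = true := by decide +kernel

theorem genT_mem {s : ℕ} (hs : s ∈ gensH') : genT s ∈ genK := Subgroup.subset_closure ⟨s, hs, rfl⟩

theorem tr_pos_mem {i : ℕ} (hi : i < 693) : tr (vecAt i) ∈ genK ↔ tr (vecAt 0) ∈ genK := by
  induction i using Nat.strong_induction_on with
  | _ i ih =>
    by_cases h0 : i = 0
    · rw [h0]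
    have h := allFrom_spec parent_ok i (Nat.zero_le _) (by omega)
    rw [Bool.or_eq_true, List.any_eq_true] at h
    rcases h with h | ⟨s, hs, hlt⟩
    · exact absurd (Nat.eq_of_beq_eq_true h) h0
    rw [← ih _ (Nat.le_of_ble_eq_true hlt) (move_facts hs hi).1, ← conj_step hs hi,
      Subgroup.mul_mem_cancel_right _ (inv_mem (genT_mem hs)), Subgroup.mul_mem_cancel_left _ (genT_mem hs)]

theorem tset_le {t : G6} (ht : t ∈ Tset) : t ∈ genK := by
  obtain ⟨v, hv, hv0, rfl⟩ := ht
  obtain ⟨i, hi, c, hc, e⟩ := exists_pos hv hv0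
  have hroot : tr (vecAt (posAt 12)) = genT 2 := by
    rw [genT, if_neg (by norm_num)]
    exact congrArg tr (by decide +kernel)
  have h0 := (tr_pos_mem (by decide +kernel : posAt 12 < 693)).1 (hroot ▸ genT_mem (by decide))
  rw [← tr_smul hv hc, e]
  exact (tr_pos_mem hi).2 h0

theorem genK_eq_closure : genK = Subgroup.closure Tset := by
  refine le_antisymm ?_ ((Subgroup.closure_le _).2 fun t ht => tset_le ht)
  rw [genK, Subgroup.closure_le]
  rintro _ ⟨s, hs, rfl⟩
  by_cases h0 : s = 0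
  · rw [genT, if_pos h0]; exact one_mem _
  · refine Subgroup.subset_closure ⟨dec (rootAt s), root_iso s hs h0, ?_, by rw [genT, if_neg h0]⟩
    exact fun h => absurd h ((by decide +kernel : ∀ y ∈ gensH', y ≠ 0 → dec (rootAt y) ≠ 0) s hs h0)

theorem genK_normal : genK.Normal := by
  rw [genK_eq_closure]
  refine ⟨fun n hn g => ?_⟩
  induction hn using Subgroup.closure_induction with
  | mem t ht => exact Subgroup.subset_closure (conj_mem ht g)
  | one => rw [mul_one, mul_inv_cancel]; exact one_mem _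
  | mul x y _ _ ix iy => rw [show g * (x * y) * g⁻¹ = g * x * g⁻¹ * (g * y * g⁻¹) by group]; exact mul_mem ix iy
  | inv x _ ix => rw [show g * x⁻¹ * g⁻¹ = (g * x * g⁻¹)⁻¹ by group]; exact inv_mem ix

theorem genK_map_eq : genK.map conjT = conjT.range := by
  haveI := genK_normal
  haveI := psu_simple
  have hN : (genK.map (QuotientGroup.mk' (Subgroup.center G6))).Normal :=
    Subgroup.Normal.map inferInstance _ (QuotientGroup.mk'_surjective _)
  rcases hN.eq_bot_or_eq_top with h | h
  · exfalso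
    refine conjT_genT_ne (center_fixes _ ?_)
    rw [← QuotientGroup.eq_one_iff]
    exact Subgroup.mem_bot.1 (h ▸ Subgroup.mem_map_of_mem _ (genT_mem (by decide)))
  · refine le_antisymm (Subgroup.map_le_range _ _) ?_
    rintro _ ⟨g, rfl⟩
    have hg : (g : Cfsg.PSU 6 Four 2) ∈ genK.map (QuotientGroup.mk' (Subgroup.center G6)) := h ▸ Subgroup.mem_top _
    obtain ⟨k, hk, e⟩ := hg
    have hz : k⁻¹ * g ∈ Subgroup.center G6 := QuotientGroup.eq.1 e
    refine ⟨k, hk, ?_⟩
    have := center_fixes _ hz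
    rw [map_mul, map_inv, inv_mul_eq_one] at this
    exact this

theorem conjT_ker : conjT.ker = Subgroup.center G6 := by
  refine le_antisymm ?_ fun z hz => center_fixes z hz
  haveI := psu_simple
  have hN : (conjT.ker.map (QuotientGroup.mk' (Subgroup.center G6))).Normal :=
    Subgroup.Normal.map inferInstance _ (QuotientGroup.mk'_surjective _)
  rcases hN.eq_bot_or_eq_top with h | h
  · exact fun k hk => (QuotientGroup.eq_one_iff k).1 (Subgroup.mem_bot.1 (h ▸ Subgroup.mem_map_of_mem _ hk))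
  · exfalso
    refine conjT_genT_ne ?_
    have hg : (genT 2 : Cfsg.PSU 6 Four 2) ∈ conjT.ker.map (QuotientGroup.mk' (Subgroup.center G6)) :=
      h ▸ Subgroup.mem_top _
    obtain ⟨k, hk, e⟩ := hg
    have hz : k⁻¹ * genT 2 ∈ Subgroup.center G6 := QuotientGroup.eq.1 e
    have := center_fixes _ hz
    rwa [map_mul, map_inv, (MonoidHom.mem_ker.1 hk), inv_one, one_mul] at this

/-- The range of the action is the projective group. -/
noncomputable def rangeEquiv : sigma.range ≃* Cfsg.PSU 6 Four 2 :=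
  (MulEquiv.subgroupCongr (sigma_range.trans genK_map_eq)).trans
    ((QuotientGroup.quotientKerEquivRange conjT).symm.trans (QuotientGroup.quotientMulEquivOfEq conjT_ker))

theorem card_subH : Nat.card subH = 18393661440 := by
  obtain ⟨S, -, -, -⟩ := exists_suborbitsH
  have h := Subgroup.index_mul_card subH
  rw [← S.stab, index_stabilizer, show orbit GP S.a = Set.univ from Set.eq_univ_of_forall fun x => S.trans x,
    Set.ncard_univ, Nat.card_fin, S.stab, card_act] at h
  change 3510 * _ = _ at h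
  omega

theorem card_sigma_ker : Nat.card sigma.ker = 2 := by
  have h := Subgroup.card_eq_card_quotient_mul_card_subgroup sigma.ker
  rw [card_subH, Nat.card_congr (QuotientGroup.quotientKerEquivRange sigma).toEquiv,
    Nat.card_congr rangeEquiv.toEquiv, card_psu] at h
  omega

/-- The transposition in its centralizer. -/
noncomputable def axisT : subH := ⟨ActH.act.letters relsG 0, mem_subH (by decide)⟩

theorem axisT_central : axisT ∈ Subgroup.center subH := Subgroup.mem_center_iff.2 fun g => Subtype.ext (by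
  show g.1 * ActH.act.letters relsG 0 = ActH.act.letters relsG 0 * g.1
  rw [Act.letters_of_lt (show 0 < ActH.act.k by decide)]
  exact commute_subH g.2)

theorem axisT_ne : axisT ≠ 1 := fun h => by
  have e := DFunLike.congr_fun (congrArg ActH.valid.rho (congrArg Subtype.val h)) ⟨1, by decide⟩
  rw [show ((1 : subH) : GP) = 1 from rfl, map_one] at e
  have e2 := perm_T (show 0 ∈ gensH' by decide) ⟨1, by decide⟩
  rw [show ActH.valid.rho (ActH.act.letters relsG 0) = ActH.valid.rho axisT.1 from rfl] at e2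
  rw [e] at e2
  exact absurd e2 (by decide +kernel)

theorem center_range : Subgroup.center sigma.range = ⊥ := by
  haveI := psu_simple
  haveI : IsSimpleGroup sigma.range := rangeEquiv.isSimpleGroup
  rcases (inferInstance : (Subgroup.center sigma.range).Normal).eq_bot_or_eq_top with h | h
  · exact h
  · exfalso
    letI : CommGroup sigma.range :=
      { (inferInstance : Group sigma.range) with
        mul_comm := fun x y => Subgroup.mem_center_iff.1 (h ▸ Subgroup.mem_top y) x }
    have hp := IsSimpleGroup.prime_card (α := sigma.range)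
    rw [Nat.card_congr rangeEquiv.toEquiv, card_psu] at hp
    exact Nat.not_prime_mul (show (2 : ℕ) ≠ 1 by norm_num) (show (4598415360 : ℕ) ≠ 1 by norm_num) hp

theorem sigma_ker_eq : sigma.ker = Subgroup.center subH ∧ Nat.card (Subgroup.center subH) = 2 := by
  have hle : Subgroup.center subH ≤ sigma.ker := by
    intro z hz
    have hc : (⟨sigma z, z, rfl⟩ : sigma.range) ∈ Subgroup.center sigma.range := Subgroup.mem_center_iff.2 fun g => by
      obtain ⟨_, y, rfl⟩ := g
      refine Subtype.ext ?_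
      show sigma y * sigma z = sigma z * sigma y
      rw [← map_mul, ← map_mul, Subgroup.mem_center_iff.1 hz y]
    rw [center_range, Subgroup.mem_bot] at hc
    exact congrArg Subtype.val hc
  haveI : Finite GP := Nat.finite_of_card_ne_zero (ne_of_eq_of_ne card_act (by decide))
  haveI : Nontrivial (Subgroup.center subH) := ⟨⟨⟨axisT, axisT_central⟩, 1, fun h => axisT_ne (congrArg Subtype.val h)⟩⟩
  have h1 : 1 < Nat.card (Subgroup.center subH) := Finite.one_lt_card
  have h2 := Subgroup.card_le_of_le hle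
  rw [card_sigma_ker] at h2
  refine ⟨(Subgroup.eq_of_le_of_card_ge hle ?_).symm, by omega⟩
  rw [card_sigma_ker]; omega

theorem rho_ev {w : List ℕ} : ActH.valid.rho (ev (ActH.act.letters relsG) w) = ev ActH.valid.perm w := by
  rw [map_ev]
  exact ev_congr fun x _ => ActH.valid.rho_letters x

/-- Two words of the ten letters act alike. -/
noncomputable def sameAll (u v : List ℕ) : Bool :=
  allFrom (fun c => Nat.beq (ActH.act.wact u c) (ActH.act.wact v c)) 0 3510

set_option maxHeartbeats 4000000 in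
theorem braid_ok : ([(2, 3), (3, 4), (4, 5), (5, 6), (3, 7), (7, 8), (5, 9)] : List (ℕ × ℕ)).all (fun p =>
    sameAll (powWord [p.1, p.2] 3) []) = true := by decide +kernel

set_option maxHeartbeats 4000000 in
theorem even_ok : sameAll (powWord evenWord 5) [0] = true := by decide +kernel

/-- The generators inside the centralizer. -/
noncomputable def genH (s : ℕ) : subH := if hs : s ∈ gensH' then ⟨_, mem_subH hs⟩ else 1

theorem ev_genH {w : List ℕ} (hw : ∀ x ∈ w, x ∈ gensH') :
    ((ev genH w : subH) : GP) = ev (ActH.act.letters relsG) w := by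
  rw [show ((ev genH w : subH) : GP) = subH.subtype (ev genH w) from rfl, map_ev]
  exact ev_congr fun x hx => by rw [genH, dif_pos (hw x hx)]; rfl

theorem eq_of_sameOK {u v : List ℕ} (hu : ∀ x ∈ u, x ∈ gensH') (hv : ∀ x ∈ v, x ∈ gensH')
    (h : sameAll u v = true) : ev genH u = ev genH v := by
  refine Subtype.ext ?_
  rw [ev_genH hu, ev_genH hv]
  refine rho_injective ?_
  rw [rho_ev, rho_ev]
  have hK : ∀ y ∈ gensH', y < ActH.act.K := by decide +kernel
  refine Equiv.ext fun c => Fin.ext ?_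
  rw [ActH.valid.wact_eq fun x hx => hK x (hu x hx), ActH.valid.wact_eq fun x hx => hK x (hv x hx)]
  exact Nat.eq_of_beq_eq_true (allFrom_spec h c (Nat.zero_le _) (by
    have := c.2
    change (c : ℕ) < 3510 at this
    omega))

theorem genH_sq {s : ℕ} (hs : s ∈ gensH') : genH s * genH s = 1 := by
  refine Subtype.ext ?_
  rw [genH, dif_pos hs]
  show ActH.act.letters relsG s * ActH.act.letters relsG s = 1
  refine rho_injective ?_
  rw [map_one, map_mul]
  refine Equiv.ext fun c => Fin.ext ?_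
  show ((ActH.valid.rho (ActH.act.letters relsG s) (ActH.valid.rho (ActH.act.letters relsG s) c) : Fin _) : ℕ) = c
  rw [perm_T hs, perm_T hs]
  exact Nat.eq_of_beq_eq_true (allFrom_spec (sq_ok s hs) c (Nat.zero_le _) (by
    have := c.2
    show (c : ℕ) < 0 + 3510
    change (c : ℕ) < 3510 at this
    omega))

theorem axisT_commutator : axisT ∈ commutator subH := by
  rw [← Abelianization.ker_of, MonoidHom.mem_ker]
  let a : ℕ → Abelianization subH := fun s => Abelianization.of (genH s)
  have hev : ∀ w, Abelianization.of (ev genH w) = ev a w := fun w => map_ev _ _ _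
  have hsq : ∀ s ∈ gensH', a s * a s = 1 := fun s hs => by
    simp only [a, ← map_mul, genH_sq hs, map_one]
  have hbr : ∀ p ∈ ([(2, 3), (3, 4), (4, 5), (5, 6), (3, 7), (7, 8), (5, 9)] : List (ℕ × ℕ)), a p.1 = a p.2 := by
    intro p hp
    have hx : p.1 ∈ gensH' ∧ p.2 ∈ gensH' := (by decide : ∀ p ∈ ([(2, 3), (3, 4), (4, 5), (5, 6), (3, 7), (7, 8),
      (5, 9)] : List (ℕ × ℕ)), p.1 ∈ gensH' ∧ p.2 ∈ gensH') p hp
    have h := eq_of_sameOK (u := powWord [p.1, p.2] 3) (v := []) (fun x hx' => by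
      simp [powWord] at hx'
      rcases hx' with h | h | h | h | h | h <;> subst h <;> first | exact hx.1 | exact hx.2) (by simp) (List.all_eq_true.1 braid_ok p hp)
    have h3 := congrArg (Abelianization.of (G := subH)) h
    rw [hev, hev, ev_powWord] at h3
    simp only [ev, List.map_cons, List.map_nil, List.prod_cons, List.prod_nil, mul_one] at h3
    have h2 : (a p.1 * a p.2) ^ 2 = 1 := by
      rw [sq, mul_mul_mul_comm, hsq _ hx.1, hsq _ hx.2, one_mul]
    rw [pow_succ, h2, one_mul] at h3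
    calc a p.1 = a p.1 * (a p.2 * a p.2) := by rw [hsq _ hx.2, mul_one]
      _ = a p.2 := by rw [← mul_assoc, h3, one_mul]
  have h2 := hbr (2, 3) (by decide)
  have h3 := hbr (3, 4) (by decide)
  have h4 := hbr (4, 5) (by decide)
  have h6 := hbr (3, 7) (by decide)
  have h7 := hbr (7, 8) (by decide)
  have h8 := hbr (5, 9) (by decide)
  simp only at h2 h3 h4 h6 h7 h8
  have h := eq_of_sameOK (u := powWord evenWord 5) (v := [0]) (by decide) (by decide) even_ok
  have h0 := congrArg (Abelianization.of (G := subH)) h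
  rw [hev, hev, ev_powWord] at h0
  simp only [ev, evenWord, List.map_cons, List.map_nil, List.prod_cons, List.prod_nil, mul_one,
    ← h8, ← h7, ← h6, ← h4, ← h3, ← h2, hsq 2 (by decide), mul_one, one_pow] at h0
  show Abelianization.of axisT = 1
  rw [h0]
  rfl

/-- `2·U₆(2)`. -/
theorem nonsplit_subH : Cfsg.IsNonsplitDoubleCover subH (Cfsg.PSU 6 Four 2) := by
  obtain ⟨hker, hcard⟩ := sigma_ker_eq
  refine ⟨hcard, ⟨(QuotientGroup.quotientMulEquivOfEq hker.symm).trans
    ((QuotientGroup.quotientKerEquivRange sigma).trans rangeEquiv)⟩, fun L hL => axisT_ne ?_⟩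
  have hcomm : commutator subH ≤ L := by
    rw [commutator_eq_closure, Subgroup.closure_le]
    rintro _ ⟨g, h, rfl⟩
    obtain ⟨⟨⟨z, hz⟩, l⟩, rfl⟩ := hL.2 g
    obtain ⟨⟨⟨z', hz'⟩, l'⟩, rfl⟩ := hL.2 h
    have e : ⁅z * (l : subH), z' * (l' : subH)⁆ = ⁅(l : subH), (l' : subH)⁆ := by
      rw [commutatorElement_def, commutatorElement_def]
      have hc := Subgroup.mem_center_iff.1 hz
      have hc' := Subgroup.mem_center_iff.1 hz'
      generalize (l : subH) = l
      generalize (l' : subH) = l'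
      calc z * l * (z' * l') * (z * l)⁻¹ * (z' * l')⁻¹
          = z * (l * z') * l' * (l⁻¹ * z⁻¹) * (l'⁻¹ * z'⁻¹) := by group
        _ = z * (z' * l) * l' * (z⁻¹ * l⁻¹) * (z'⁻¹ * l'⁻¹) := by
          rw [hc', Subgroup.mem_center_iff.1 (inv_mem hz), Subgroup.mem_center_iff.1 (inv_mem hz')]
        _ = z * z' * ((l * l') * z⁻¹) * l⁻¹ * z'⁻¹ * l'⁻¹ := by group
        _ = z * z' * (z⁻¹ * (l * l')) * l⁻¹ * z'⁻¹ * l'⁻¹ := by rw [Subgroup.mem_center_iff.1 (inv_mem hz)]
        _ = z * (z' * z⁻¹) * (l * l' * l⁻¹ * z'⁻¹) * l'⁻¹ := by group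
        _ = z * (z⁻¹ * z') * (z'⁻¹ * (l * l' * l⁻¹)) * l'⁻¹ := by
          rw [Subgroup.mem_center_iff.1 (inv_mem hz) z', Subgroup.mem_center_iff.1 (inv_mem hz') (_ * _ * _)]
        _ = l * l' * l⁻¹ * l'⁻¹ := by group
    exact e ▸ L.mul_mem (L.mul_mem (L.mul_mem l.2 l'.2) (L.inv_mem l.2)) (L.inv_mem l'.2)
  exact Subgroup.mem_bot.1 (hL.disjoint.le_bot ⟨axisT_central, hcomm axisT_commutator⟩)

theorem cover_congr {H H' K : Type*} [Group H] [Group H'] [Group K] (h : Cfsg.IsNonsplitDoubleCover H K)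
    (e : H ≃* H') : Cfsg.IsNonsplitDoubleCover H' K := by
  obtain ⟨hc, ⟨f⟩, hn⟩ := h
  have hmap : (Subgroup.center H).map (e : H →* H') = Subgroup.center H' := by
    ext x
    rw [Subgroup.mem_map]
    constructor
    · rintro ⟨z, hz, rfl⟩
      refine Subgroup.mem_center_iff.2 fun y => ?_
      obtain ⟨y, rfl⟩ := e.surjective y
      show e y * e z = e z * e y
      rw [← map_mul, ← map_mul, Subgroup.mem_center_iff.1 hz y]
    · intro hx
      refine ⟨e.symm x, Subgroup.mem_center_iff.2 fun y => e.injective ?_, e.apply_symm_apply x⟩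
      rw [map_mul, map_mul, e.apply_symm_apply, Subgroup.mem_center_iff.1 hx]
  refine ⟨?_, ⟨(QuotientGroup.congr _ _ e hmap).symm.trans f⟩, fun L hL => hn (L.comap (e : H →* H')) ?_⟩
  · rw [← hmap, ← Nat.card_congr ((Subgroup.center H).equivMapOfInjective _ e.injective).toEquiv, hc]
  · refine Subgroup.isComplement'_of_disjoint_and_mul_eq_univ ?_ ?_
    · rw [Subgroup.disjoint_def]
      intro x hx hxL
      have hx' : e x ∈ Subgroup.center H' := hmap ▸ Subgroup.mem_map_of_mem _ hx
      exact (map_eq_one_iff e e.injective).1 (Subgroup.disjoint_def.1 hL.disjoint hx' hxL)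
    · rw [Set.eq_univ_iff_forall]
      intro x
      obtain ⟨⟨⟨z, hz⟩, ⟨l, hl⟩⟩, hzl⟩ := hL.2 (e x)
      refine ⟨e.symm z, ?_, e.symm l, ?_, ?_⟩
      · rw [← hmap] at hz
        obtain ⟨z', hz', rfl⟩ := hz
        show e.symm (e z') ∈ Subgroup.center H
        rwa [e.symm_apply_apply]
      · show e (e.symm l) ∈ L
        rwa [e.apply_symm_apply]
      · refine e.injective ?_
        show e (e.symm z * e.symm l) = e x
        rw [map_mul, e.apply_symm_apply, e.apply_symm_apply]
        exact hzl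

theorem exists_four_cover : ∃ (K : Type) (_ : Field K) (_ : Fintype K), Fintype.card K = 4 ∧
    Cfsg.IsNonsplitDoubleCover (((Subgroup.closure ({Cfsg.Spor.Fi22.a, Cfsg.Spor.Fi22.c, Cfsg.Spor.Fi22.d,
      Cfsg.Spor.Fi22.e, Cfsg.Spor.Fi22.f, Cfsg.Spor.Fi22.g, Cfsg.Spor.Fi22.h, Cfsg.Spor.Fi22.i,
      (Cfsg.Spor.Fi22.a * Cfsg.Spor.Fi22.b * Cfsg.Spor.Fi22.c * Cfsg.Spor.Fi22.d * Cfsg.Spor.Fi22.e *
        Cfsg.Spor.Fi22.h) ^ 5} : Set (FreeGroup Cfsg.Spor.Fi22.Gen))).map
      (PresentedGroup.mk (Cfsg.Spor.coxRelators Cfsg.Spor.Fi22.edges ∪ {r | r ∈ Cfsg.Spor.Fi22.extra}))))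
      (Cfsg.PSU 6 K 2) := by
  refine ⟨Four, inferInstance, inferInstance, Four.card_four, ?_⟩
  obtain ⟨e, he⟩ := exists_equiv_gen
  rw [← map_subH e he]
  exact cover_congr nonsplit_subH (subH.equivMapOfInjective e.toMonoidHom e.injective)

end CfsgLib.Spor.Fi22.U6
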