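/-
The transpositions of the presented Fischer group: 3510 conjugates, products of order at most three.
-/
import Cfsg.Agent.Lib.Spor.Fi22.U6.Iso
import Cfsg.Prelude.Def_SporadicB

namespace CfsgLib.Spor.Fi22.U6

open MulAction CfsgLib.Spor.TC

attribute [local instance] actionH

/-- The first transposition. -/
noncomputable def tA : GP := presGen ActH.act.k relsG 0

/-- The base point. -/
def pt0 : Fin ActH.act.n := ⟨0, by decide⟩

/-- The neighbour of the base point. -/
def pt1 : Fin ActH.act.n := ⟨1, by decide⟩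

theorem smul_eq_rho (g : GP) (c : Fin ActH.act.n) : g • c = ActH.valid.rho g c := rfl

theorem tA_eq : tA = ActH.act.letters relsG 0 :=
  (Act.letters_of_lt (A := ActH.act) (rels := relsG) (show 0 < ActH.act.k by decide)).symm

theorem stab_pt0 : stabilizer GP pt0 = subH := by
  obtain ⟨Sub, h0, -, -⟩ := exists_suborbitsH
  rw [← Sub.stab, show pt0 = Sub.a from Fin.ext h0.symm]

theorem trans_pt0 (x : Fin ActH.act.n) : ∃ g : GP, g • pt0 = x := by
  obtain ⟨Sub, h0, -, -⟩ := exists_suborbitsH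
  obtain ⟨g, hg⟩ := Sub.trans x
  exact ⟨g, by rw [show pt0 = Sub.a from Fin.ext h0.symm]; exact hg⟩

theorem S_orbit {c : Fin ActH.act.n} (hc : c ∈ S) :
    c ∈ orbit subH (pointOf ⟨0, by norm_num⟩) := by
  have key : ∀ i, (hi : i < 693) → pointOf ⟨i, hi⟩ ∈ orbit subH (pointOf ⟨0, by norm_num⟩) := by
    intro i
    induction i using Nat.strong_induction_on with
    | _ i ih =>
      intro hi
      by_cases h0 : i = 0
      · subst h0; exact mem_orbit_self _
      have h := allFrom_spec parent_ok i (Nat.zero_le _) (by omega)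
      rw [Bool.or_eq_true, List.any_eq_true] at h
      rcases h with h | ⟨s, hs, hlt⟩
      · exact absurd (Nat.eq_of_beq_eq_true h) h0
      obtain ⟨h1, h2, h3, -⟩ := move_facts hs hi
      obtain ⟨g, hg⟩ := ih _ (Nat.le_of_ble_eq_true hlt) h1
      refine ⟨(⟨_, mem_subH hs⟩ : subH) * g, ?_⟩
      show ((⟨_, mem_subH hs⟩ : subH) * g) • pointOf ⟨0, _⟩ = _
      rw [mul_smul]
      change (⟨_, mem_subH hs⟩ : subH) • (g • pointOf ⟨0, _⟩) = _
      rw [show g • pointOf ⟨0, by norm_num⟩ = pointOf ⟨_, h1⟩ from hg]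
      refine Fin.ext ?_
      show (ActH.valid.rho (ActH.act.letters relsG s) (pointOf ⟨_, h1⟩) : ℕ) = ptAt i
      rw [perm_T hs]
      show ActH.act.T s (ptAt (posAt (ActH.act.T s (ptAt i)))) = ptAt i
      rw [h2]; exact h3
  have h := key _ hc.1
  rwa [show pointOf ⟨posAt c, hc.1⟩ = c from Fin.ext hc.2] at h

set_option maxRecDepth 100000 in
theorem fixed_ok : allFrom (fun c => !(Nat.beq (ActH.act.T 0 c) c) || Nat.beq c 0 ||
    (Nat.blt (posAt c) 693 && Nat.beq (ptAt (posAt c)) c)) 0 3510 = true := by decide +kernel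

theorem zero_not_S : pt0 ∉ S ∧ pt1 ∉ S := by
  constructor <;> rintro ⟨h, h'⟩ <;> revert h h' <;> decide +kernel

theorem centralizer_tA : Subgroup.centralizer ({tA} : Set GP) = subH := by
  refine le_antisymm (fun g hg => ?_) fun g hg => Subgroup.mem_centralizer_singleton_iff.2 ?_
  swap
  · exact commute_subH hg
  rw [← stab_pt0, mem_stabilizer_iff]
  by_contra hne
  have hfix : ∀ k ∈ Subgroup.centralizer ({tA} : Set GP), k • pt0 = pt0 ∨ k • pt0 ∈ S := by
    intro k hk
    have h1 : tA • k • pt0 = k • pt0 := by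
      rw [← mul_smul, ← Subgroup.mem_centralizer_singleton_iff.1 hk, mul_smul]
      congr 1
    have h2 : ActH.act.T 0 ((k • pt0 : Fin ActH.act.n) : ℕ) = ((k • pt0 : Fin ActH.act.n) : ℕ) := by
      rw [← perm_T (show 0 ∈ gensH' by decide), ← tA_eq]
      exact congrArg Fin.val h1
    have h := allFrom_spec fixed_ok _ (Nat.zero_le _) (by
      have := (k • pt0 : Fin ActH.act.n).2
      change ((k • pt0 : Fin ActH.act.n) : ℕ) < 3510 at this
      omega)
    simp only [Bool.or_eq_true, Bool.and_eq_true, Bool.not_eq_true'] at h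
    rcases h with (h | h) | h
    · rw [h2] at h
      exact absurd (Nat.beq_refl _) (by rw [h]; exact Bool.noConfusion)
    · exact Or.inl (Fin.ext (Nat.eq_of_beq_eq_true h))
    · exact Or.inr ⟨Nat.le_of_ble_eq_true h.1, Nat.eq_of_beq_eq_true h.2⟩
  let C := Subgroup.centralizer ({tA} : Set GP)
  have hHC : subH ≤ C := fun x hx => Subgroup.mem_centralizer_singleton_iff.2 (commute_subH hx)
  have horb : orbit C pt0 = insert pt0 S := by
    ext x
    constructor
    · rintro ⟨⟨k, hk⟩, rfl⟩
      exact hfix k hk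
    · intro hx
      rcases hx with rfl | hx
      · exact mem_orbit_self _
      · have hgS : g • pt0 ∈ S := (hfix g hg).resolve_left hne
        obtain ⟨h1, e1⟩ := S_orbit hgS
        obtain ⟨h2, e2⟩ := S_orbit hx
        refine ⟨⟨h2.1 * h1.1⁻¹ * g, C.mul_mem (C.mul_mem (hHC h2.2) (C.inv_mem (hHC h1.2))) hg⟩, ?_⟩
        show (h2.1 * h1.1⁻¹ * g) • pt0 = x
        rw [mul_smul, mul_smul, ← (show h1.1 • pointOf ⟨0, _⟩ = g • pt0 from e1), inv_smul_smul]
        exact e2
  have hS : S.ncard = 693 := by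
    have e : S = pointOf '' Set.univ := Set.Subset.antisymm
      (fun d hd => ⟨⟨posAt d, hd.1⟩, trivial, Fin.ext hd.2⟩)
      (by rintro _ ⟨i, -, rfl⟩; exact pointOf_mem i)
    rw [e, Set.ncard_image_of_injective, Set.ncard_univ, Nat.card_fin]
    intro i j h
    have h' : ptAt i = ptAt j := congrArg Fin.val h
    exact Fin.ext (by rw [← (pos_facts i.2).2.1, h', (pos_facts j.2).2.1])
  have h694 : (orbit C pt0).ncard = 694 := by
    rw [horb, Set.ncard_insert_of_notMem zero_not_S.1 (Set.toFinite _), hS]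
  have hdiv : (stabilizer C pt0).index ∣ (stabilizer GP pt0).index := by
    rw [show stabilizer C pt0 = (stabilizer GP pt0).subgroupOf C from rfl]
    exact Dvd.intro _ (Subgroup.relIndex_mul_index (stab_pt0 ▸ hHC))
  rw [index_stabilizer, index_stabilizer, h694,
    show orbit GP pt0 = Set.univ from Set.eq_univ_of_forall fun x => trans_pt0 x, Set.ncard_univ, Nat.card_fin] at hdiv
  exact absurd hdiv (by decide +kernel)

set_option maxHeartbeats 4000000 in
theorem prod_ok : ActH.act.sameOK (powWord [0, 1, 0, 1] 3) [] = true ∧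
    ActH.act.sameOK (powWord [0, 1, 2, 0, 1, 0, 1, 0, 2, 1] 2) [] = true ∧
    Nat.beq (ActH.act.T 1 0) 1 = true ∧
    Nat.blt (posAt (ActH.act.wact [1, 2, 0, 1] 0)) 693 = true ∧
    Nat.beq (ptAt (posAt (ActH.act.wact [1, 2, 0, 1] 0))) (ActH.act.wact [1, 2, 0, 1] 0) = true := by decide +kernel

theorem smul_ev {w : List ℕ} (hw : ∀ x ∈ w, x < ActH.act.k) (c : Fin ActH.act.n) :
    ((ev (presGen ActH.act.k relsG) w • c : Fin ActH.act.n) : ℕ) = ActH.act.wact w c := by
  rw [smul_eq_rho, map_ev, ev_congr (g' := ActH.valid.perm) fun x hx => ?_,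
    ActH.valid.wact_eq fun x hx => lt_of_lt_of_le (hw x hx) (Nat.le_add_right _ _)]
  rw [ActH.valid.perm_of_lt (hw x hx)]
  exact presHom_gen ActH.valid.sat x

theorem tA_sq : tA * tA = 1 := (sat_presGen _ _).sq 0

theorem product_three (g : GP) : (tA * (g * tA * g⁻¹)) ^ 2 = 1 ∨ (tA * (g * tA * g⁻¹)) ^ 3 = 1 := by
  have red : ∀ (r : GP) (h : GP), h ∈ subH → g • pt0 = h • r • pt0 → ∀ m : ℕ, (tA * (r * tA * r⁻¹)) ^ m = 1 →
      (tA * (g * tA * g⁻¹)) ^ m = 1 := by
    intro r h hh e m hm
    have hk : (h * r)⁻¹ * g ∈ subH := by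
      rw [← stab_pt0, mem_stabilizer_iff, mul_smul, e, ← mul_smul h r, inv_smul_smul]
    obtain ⟨k, hkm, rfl⟩ : ∃ k ∈ subH, g = h * r * k := ⟨_, hk, by rw [mul_inv_cancel_left]⟩
    have e1 : tA * (h * r * k * tA * (h * r * k)⁻¹) = h * (tA * (r * tA * r⁻¹)) * h⁻¹ := by
      calc tA * (h * r * k * tA * (h * r * k)⁻¹) = tA * h * r * (k * tA) * k⁻¹ * r⁻¹ * h⁻¹ := by group
        _ = h * tA * r * (tA * k) * k⁻¹ * r⁻¹ * h⁻¹ := by rw [show k * tA = tA * k from commute_subH hkm, show tA * h = h * tA from (commute_subH hh).symm]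
        _ = _ := by group
    rw [e1, conj_pow, hm, mul_one, mul_inv_cancel]
  obtain ⟨hp3, hp2, hb, hs1, hs2⟩ := prod_ok
  let gen := presGen ActH.act.k relsG
  have hs : ∀ y, gen y * gen y = 1 := (sat_presGen _ _).sq
  have hi : ∀ y, (gen y)⁻¹ = gen y := fun y => inv_eq_of_mul_eq_one_right (hs y)
  by_cases h0 : g • pt0 = pt0
  · left
    refine red 1 1 (one_mem _) (by rw [one_smul, one_smul, h0]) 2 ?_
    rw [one_mul, inv_one, mul_one, tA_sq, one_pow]
  by_cases hS : g • pt0 ∈ S
  · left
    obtain ⟨h1, e1⟩ := S_orbit hS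
    have hr : ev gen [1, 2, 0, 1] • pt0 ∈ S := by
      have e : ((ev gen [1, 2, 0, 1] • pt0 : Fin ActH.act.n) : ℕ) = ActH.act.wact [1, 2, 0, 1] 0 :=
        smul_ev (by decide) pt0
      exact ⟨by rw [e]; exact Nat.le_of_ble_eq_true hs1, by rw [e]; exact Nat.eq_of_beq_eq_true hs2⟩
    obtain ⟨h2, e2⟩ := S_orbit hr
    refine red (ev gen [1, 2, 0, 1]) (h1.1 * h2.1⁻¹) (mul_mem h1.2 (inv_mem h2.2)) ?_ 2 ?_
    · rw [mul_smul, ← (show h2.1 • pointOf ⟨0, _⟩ = ev gen [1, 2, 0, 1] • pt0 from e2), inv_smul_smul]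
      exact e1.symm
    · have h := rho_injective (ActH.valid.rho_eq hp2)
      rw [ev_powWord] at h
      simp only [ev, List.map_cons, List.map_nil, List.prod_cons, List.prod_nil, mul_one] at h
      simp only [ev, List.map_cons, List.map_nil, List.prod_cons, List.prod_nil, mul_one, mul_inv_rev, hi, tA]
      simpa [mul_assoc, gen] using h
  · right
    obtain ⟨Sub, hSa, ⟨hz0, hz1, hz2⟩, hrep⟩ := exists_suborbitsH
    have hidx : ∀ x : Fin ActH.act.n, x ≠ pt0 → x ∉ S → x ∈ orbit subH (Sub.rep 1) := by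
      intro x hx hxS
      obtain ⟨i, hi'⟩ := Sub.cover x
      fin_cases i
      · exfalso
        obtain ⟨k, hk⟩ := hi'
        refine hx (hk.symm.trans ?_)
        show k.1 • Sub.rep 0 = pt0
        rw [hrep, show Sub.a = pt0 from Fin.ext hSa]
        have := k.2
        simp only [← stab_pt0] at this
        exact this
      · exact hi'
      · exfalso
        obtain ⟨j, hj⟩ := Sub.cover (pointOf ⟨0, by norm_num⟩)
        have hsub : orbit subH (Sub.rep j) ⊆ S := by
          rw [← orbit_eq_iff.2 hj]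
          rintro _ ⟨k, rfl⟩
          exact (mem_iff_S k.2 _).2 (pointOf_mem _)
        have hsup : S ⊆ orbit subH (Sub.rep j) := fun d hd => by
          rw [← orbit_eq_iff.2 hj]; exact S_orbit hd
        have heq := Set.Subset.antisymm hsub hsup
        have hc : S.ncard ≤ 693 := by
          have : S ⊆ pointOf '' Set.univ := fun d hd => ⟨⟨posAt d, hd.1⟩, trivial, Fin.ext hd.2⟩
          refine (Set.ncard_le_ncard this (Set.toFinite _)).trans ((Set.ncard_image_le Set.finite_univ).trans ?_)
          rw [Set.ncard_univ, Nat.card_fin]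
        fin_cases j
        · exact zero_not_S.1 (by
            rw [← heq]
            exact ⟨1, by show (1 : subH) • Sub.rep 0 = pt0; rw [one_smul, hrep]; exact Fin.ext hSa⟩)
        · rw [← heq, Sub.orbit_size] at hc
          change Sub.size 1 ≤ 693 at hc; rw [show Sub.size 1 = 2816 from hz1] at hc; omega
        · exact hxS (heq ▸ hi')
    have hb1 : gen 1 • pt0 = pt1 := Fin.ext (by
      have e := smul_ev (w := [1]) (by decide) pt0
      simp only [ev, List.map_cons, List.map_nil, List.prod_cons, List.prod_nil, mul_one] at e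
      exact e.trans (Nat.eq_of_beq_eq_true hb))
    obtain ⟨k1, e1⟩ := hidx _ h0 hS
    obtain ⟨k2, e2⟩ := hidx pt1 (by decide) zero_not_S.2
    refine red (gen 1) (k1.1 * k2.1⁻¹) (mul_mem k1.2 (inv_mem k2.2)) ?_ 3 ?_
    · rw [hb1, mul_smul, ← (show k2.1 • Sub.rep 1 = pt1 from e2), inv_smul_smul]
      exact e1.symm
    · have h := rho_injective (ActH.valid.rho_eq hp3)
      rw [ev_powWord] at h
      simp only [ev, List.map_cons, List.map_nil, List.prod_cons, List.prod_nil, mul_one] at h
      simp only [hi, tA]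
      simpa [mul_assoc, gen] using h

theorem realization : ∃ (G : Type) (_ : Group G) (_ : Finite G), Cfsg.IsFi22 G ∧ ∃ D : Set G,
    Cfsg.IsThreeTranspositionClass D ∧ Nat.card D = 3510 ∧ ∀ d ∈ D, ∃ (F : Type) (_ : Field F) (_ : Fintype F),
      Fintype.card F = 4 ∧ Cfsg.IsNonsplitDoubleCover (Subgroup.centralizer ({d} : Set G)) (Cfsg.PSU 6 F 2) := by
  haveI hfin : Finite GP := Nat.finite_of_card_ne_zero (ne_of_eq_of_ne card_act (by decide))
  haveI := simple_act
  have hne : tA ≠ 1 := fun h => axisT_ne (Subtype.ext (tA_eq.symm.trans h))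
  have hord : ∀ d ∈ conjugatesOf tA, orderOf d = 2 := by
    intro d hd
    obtain ⟨g, rfl⟩ := isConj_iff.1 hd
    refine orderOf_eq_prime ?_ fun h => hne ?_
    · rw [sq, conj_mul, tA_sq, mul_one, mul_inv_cancel]
    · exact conj_eq_one_iff.1 h
  refine ⟨GP, inferInstance, hfin, ⟨simple_act, card_act⟩, conjugatesOf tA, ⟨⟨hord, ?_⟩, ⟨tA, ?_, rfl⟩, ?_⟩, ?_, ?_⟩
  · intro d hd e he
    obtain ⟨g, rfl⟩ := isConj_iff.1 hd
    obtain ⟨g', rfl⟩ := isConj_iff.1 he
    have e : g * tA * g⁻¹ * (g' * tA * g'⁻¹) = g * (tA * ((g⁻¹ * g') * tA * (g⁻¹ * g')⁻¹)) * g⁻¹ := by group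
    rw [e, conj_pow, conj_pow]
    rcases product_three (g⁻¹ * g') with h | h
    · left; rw [h, mul_one, mul_inv_cancel]
    · right; rw [h, mul_one, mul_inv_cancel]
  · exact mem_conjugatesOf_self
  · have hN : (Subgroup.closure (conjugatesOf tA)).Normal := by
      rw [show Subgroup.closure (conjugatesOf tA) = Subgroup.normalClosure {tA} by
        rw [Subgroup.normalClosure, Group.conjugatesOfSet, Set.biUnion_singleton]]
      exact Subgroup.normalClosure_normal
    refine hN.eq_bot_or_eq_top.resolve_left fun h => hne ?_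
    exact Subgroup.mem_bot.1 (h ▸ Subgroup.subset_closure mem_conjugatesOf_self)
  · have e : conjugatesOf tA = MulAction.orbit (ConjAct GP) tA := by
      ext x
      show IsConj tA x ↔ _; rw [ConjAct.mem_orbit_conjAct]
      exact isConj_comm
    rw [e, Nat.card_coe_set_eq, ← index_stabilizer]
    have hs : (Subgroup.centralizer ({tA} : Set GP)).index = (stabilizer (ConjAct GP) tA).index := by
      rw [Subgroup.centralizer_eq_comap_stabilizer]
      exact Subgroup.index_comap_of_surjective _ ConjAct.toConjAct.surjective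
    rw [← hs, centralizer_tA, ← stab_pt0, index_stabilizer,
      show orbit GP pt0 = Set.univ from Set.eq_univ_of_forall fun x => trans_pt0 x, Set.ncard_univ, Nat.card_fin]
    rfl
  · intro d hd
    obtain ⟨g, rfl⟩ := isConj_iff.1 hd
    refine ⟨Four, inferInstance, inferInstance, Four.card_four, ?_⟩
    have hmap : Subgroup.centralizer ({g * tA * g⁻¹} : Set GP) = subH.map (MulAut.conj g).toMonoidHom := by
      rw [← centralizer_tA]
      ext x
      rw [Subgroup.mem_map_equiv, Subgroup.mem_centralizer_singleton_iff, Subgroup.mem_centralizer_singleton_iff,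
        MulAut.conj_symm_apply]
      constructor
      · intro h
        calc g⁻¹ * x * g * tA = g⁻¹ * (x * (g * tA * g⁻¹)) * g := by group
          _ = _ := by rw [h]; group
      · intro h
        calc x * (g * tA * g⁻¹) = g * (g⁻¹ * x * g * tA) * g⁻¹ := by group
          _ = _ := by rw [h]; group
    rw [hmap]
    exact cover_congr nonsplit_subH (subH.equivMapOfInjective _ (MulAut.conj g).injective)

end CfsgLib.Spor.Fi22.U6
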